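import Cfsg.Agent.Lib.Spor.ON.Simple

/-!
An explicit element conjugating `a` to `a c` in the presented O'Nan group.
-/

set_option linter.all false

namespace CfsgLib.Spor.ONMult

open Cfsg.Spor CfsgLib.Spor.ON CfsgLib.PresCert Equiv

/-- `u⁻¹ a u c a` for `u = b g⁻¹ c b g b` -/
def conjWord : List Nat := [1, 7, 1, 2, 6, 1, 0, 1, 7, 2, 1, 6, 1, 2, 0]

set_option Elab.async false

theorem conj_fix_0 : main.okFix (pack conjWord) 0 8184 = true := by decide +kernel

theorem conj_fix_1 : main.okFix (pack conjWord) 8184 8184 = true := by decide +kernel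

theorem conj_fix_2 : main.okFix (pack conjWord) 16368 8184 = true := by decide +kernel

theorem conj_fix_3 : main.okFix (pack conjWord) 24552 8184 = true := by decide +kernel

theorem conj_fix_4 : main.okFix (pack conjWord) 32736 8184 = true := by decide +kernel

theorem conj_fix_5 : main.okFix (pack conjWord) 40920 8184 = true := by decide +kernel

theorem conj_fix_6 : main.okFix (pack conjWord) 49104 8184 = true := by decide +kernel

theorem conj_fix_7 : main.okFix (pack conjWord) 57288 8184 = true := by decide +kernel

theorem conj_fix_8 : main.okFix (pack conjWord) 65472 8184 = true := by decide +kernel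

theorem conj_fix_9 : main.okFix (pack conjWord) 73656 8184 = true := by decide +kernel

theorem conj_fix_10 : main.okFix (pack conjWord) 81840 8184 = true := by decide +kernel

theorem conj_fix_11 : main.okFix (pack conjWord) 90024 8184 = true := by decide +kernel

theorem conj_fix_12 : main.okFix (pack conjWord) 98208 8184 = true := by decide +kernel

theorem conj_fix_13 : main.okFix (pack conjWord) 106392 8184 = true := by decide +kernel

theorem conj_fix_14 : main.okFix (pack conjWord) 114576 8184 = true := by decide +kernel

theorem conj_word_one : evalW ON.gen conjWord = 1 := by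
  have hfix : ∀ c < 122760, main.app conjWord c = c :=
    Table.fix_spec (by decide +kernel) (show 122760 ≤ 1048576 by omega)
      (Table.fix_join (Table.fix_join (Table.fix_join (Table.fix_join (Table.fix_join (Table.fix_join (Table.fix_join (Table.fix_join (Table.fix_join (Table.fix_join (Table.fix_join (Table.fix_join (Table.fix_join (Table.fix_join (Table.fix_join Table.below_zero
        conj_fix_0)
        conj_fix_1)
        conj_fix_2)
        conj_fix_3)
        conj_fix_4)
        conj_fix_5)
        conj_fix_6)
        conj_fix_7)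
        conj_fix_8)
        conj_fix_9)
        conj_fix_10)
        conj_fix_11)
        conj_fix_12)
        conj_fix_13)
        conj_fix_14)
  refine π_injective ?_
  rw [map_one]
  refine inv_eq_one.1 (Equiv.ext fun c => Fin.ext ?_)
  rw [π_word conjWord (by decide) c, Perm.one_apply, hfix c c.2]

/-- `a` is conjugate to `a c` -/
theorem exists_conj : ∃ u : Cfsg.Spor.ON, u⁻¹ * letG 0 * u = letG 0 * letG 2 := by
  refine ⟨evalW ON.gen [1, 7, 2, 1, 6, 1], ?_⟩
  have e1 : evalW ON.gen [1, 7, 1, 2, 6, 1] = (evalW ON.gen [1, 7, 2, 1, 6, 1])⁻¹ := by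
    have h7 : letG 7 = (letG 6)⁻¹ := rfl
    have h1 : (letG 1)⁻¹ = letG 1 := inv_eq_of_mul_eq_one_right (letG_sq 1 (by omega))
    have h2 : (letG 2)⁻¹ = letG 2 := inv_eq_of_mul_eq_one_right (letG_sq 2 (by omega))
    simp only [evalW, List.map_cons, List.map_nil, List.prod_cons, List.prod_nil, mul_one]
    show letG 1 * (letG 7 * (letG 1 * (letG 2 * (letG 6 * letG 1)))) =
      (letG 1 * (letG 7 * (letG 2 * (letG 1 * (letG 6 * letG 1)))))⁻¹
    simp only [h7, mul_inv_rev, inv_inv, h1, h2, mul_assoc]
  have e : evalW ON.gen conjWord =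
      evalW ON.gen [1, 7, 1, 2, 6, 1] * letG 0 * evalW ON.gen [1, 7, 2, 1, 6, 1] * (letG 2 * letG 0) := by
    simp [conjWord, evalW, mul_assoc]
  rw [conj_word_one, e1] at e
  rw [eq_comm, mul_eq_one_iff_eq_inv, mul_inv_rev,
    inv_eq_of_mul_eq_one_right (letG_sq 0 (by omega)),
    inv_eq_of_mul_eq_one_right (letG_sq 2 (by omega))] at e
  exact e

end CfsgLib.Spor.ONMult
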