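import Cfsg.Agent.Lib.Spor.ONMult.Sound
import Cfsg.Agent.Lib.Spor.ONMult.Lifts
import Cfsg.Agent.Lib.Spor.ONMult.Gen
import Cfsg.Agent.Lib.Spor.ONMult.SmallCert

/-!
The multiplier of the O'Nan group has no part at the primes `5, 7, 11, 19, 31`.
-/

set_option linter.style.haveILetI false

namespace CfsgLib.Spor.ONMult

open Cfsg.Spor CfsgLib.Spor.ON

variable {E : Type*} [Group E]

/-- the element of a weight modulo `226765` -/
def zetaH (z1 z2 z3 : E) (w : Nat) : E :=
  z1 ^ (w % 1048576) * z2 ^ (w / 1048576 % 1048576) * z3 ^ (w / 1099511627776)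

theorem haddW_eq (a b : Nat) : haddW a b = (a % 1048576 + b % 1048576) % 226765 +
    ((a / 1048576 % 1048576 + b / 1048576 % 1048576) % 226765 * 1048576 +
      (a / 1099511627776 + b / 1099511627776) % 226765 * 1099511627776) := rfl

theorem zetaH_add {z1 z2 z3 : E} (h1 : ∀ g, z1 * g = g * z1) (h2 : ∀ g, z2 * g = g * z2)
    (p1 : z1 ^ 226765 = 1) (p2 : z2 ^ 226765 = 1) (p3 : z3 ^ 226765 = 1) (a b : Nat) :
    zetaH z1 z2 z3 (haddW a b) = zetaH z1 z2 z3 a * zetaH z1 z2 z3 b := by
  have p : ∀ {z : E} (n : Nat), z ^ 226765 = 1 → z ^ (n % 226765) = z ^ n := fun {z} n hz =>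
    (pow_eq_pow_mod n hz).symm
  have e := haddW_eq a b
  have f1 : haddW a b % 1048576 = (a % 1048576 + b % 1048576) % 226765 := by rw [e]; omega
  have f2 : haddW a b / 1048576 % 1048576 =
      (a / 1048576 % 1048576 + b / 1048576 % 1048576) % 226765 := by rw [e]; omega
  have f3 : haddW a b / 1099511627776 =
      (a / 1099511627776 + b / 1099511627776) % 226765 := by rw [e]; omega
  rw [zetaH, zetaH, zetaH, f1, f2, f3, p _ p1, p _ p2, p _ p3, pow_add, pow_add, pow_add]
  have c1 : ∀ (n : Nat) (g : E), z1 ^ n * g = g * z1 ^ n := fun n g =>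
    ((show Commute z1 g from h1 g).pow_left n).eq
  have c2 : ∀ (n : Nat) (g : E), z2 ^ n * g = g * z2 ^ n := fun n g =>
    ((show Commute z2 g from h2 g).pow_left n).eq
  set a1 := z1 ^ (a % 1048576)
  set a2 := z2 ^ (a / 1048576 % 1048576)
  set a3 := z3 ^ (a / 1099511627776)
  set b1 := z1 ^ (b % 1048576) with hb1
  set b2 := z2 ^ (b / 1048576 % 1048576) with hb2
  set b3 := z3 ^ (b / 1099511627776)
  calc a1 * b1 * (a2 * b2) * (a3 * b3)
      = a1 * (b1 * (a2 * b2 * a3)) * b3 := by simp only [mul_assoc]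
    _ = a1 * a2 * (b2 * (a3 * b1)) * b3 := by rw [show b1 * (a2 * b2 * a3) = a2 * b2 * a3 * b1 from c1 _ _]; simp only [mul_assoc]
    _ = a1 * a2 * a3 * (b1 * b2 * b3) := by rw [show b2 * (a3 * b1) = a3 * b1 * b2 from c2 _ _]; simp only [mul_assoc]

/-- A perfect central extension by a group of exponent dividing `226765` is trivial. -/
theorem ker_eq_bot_high (φ : E →* Cfsg.Spor.ON) (hs : Function.Surjective φ)
    (hc : φ.ker ≤ Subgroup.center E) (hperf : _root_.commutator E = ⊤)
    (hm : ∀ z ∈ φ.ker, z ^ 226765 = 1) : φ.ker = ⊥ := by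
  have O : OddCentral φ := ⟨hs, hc, fun z hz => ⟨113382, hm z hz⟩⟩
  obtain ⟨D⟩ := exists_lifts O
  have hk : ∀ r < 36, wv D.v (MainAlph.rels.getD r []) ∈ φ.ker := fun r hr => by
    refine D.mem_ker ?_
    have hl : r < MainAlph.rels.length := hr
    rw [List.getD_eq_getElem?_getD, List.getElem?_eq_getElem hl, Option.getD_some]
    exact List.getElem_mem hl
  obtain ⟨z1, hz1⟩ : ∃ z, wv D.v (MainAlph.rels.getD 35 []) = z := ⟨_, rfl⟩
  obtain ⟨z2, hz2⟩ : ∃ z, wv D.v (MainAlph.rels.getD 32 []) = z := ⟨_, rfl⟩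
  obtain ⟨z3, hz3⟩ : ∃ z, wv D.v (MainAlph.rels.getD 33 []) = z := ⟨_, rfl⟩
  have k1 : z1 ∈ φ.ker := hz1 ▸ hk 35 (by omega)
  have k2 : z2 ∈ φ.ker := hz2 ▸ hk 32 (by omega)
  have k3 : z3 ∈ φ.ker := hz3 ▸ hk 33 (by omega)
  let S : Setting highW MainAlph E :=
    { v := D.v
      L := Lifts.six D
      zeta := zetaH z1 z2 z3
      zeta_comm := fun w g => ((((show Commute z1 g from O.comm k1 g).pow_left _).mul_left
        ((show Commute z2 g from O.comm k2 g).pow_left _)).mul_left
        ((show Commute z3 g from O.comm k3 g).pow_left _)).eq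
      zeta_zero := by simp [zetaH]
      zeta_add := zetaH_add (O.comm k1) (O.comm k2) (hm _ k1) (hm _ k2) (hm _ k3)
      rels_zeta := fun r hr => by
        have hr' : r < 36 := hr
        show _ = zetaH z1 z2 z3 (hval r)
        rcases eq_or_ne r 35 with rfl | h5
        · rw [show hval 35 = 1 from rfl, hz1]; simp [zetaH]
        rcases eq_or_ne r 32 with rfl | h2
        · rw [show hval 32 = 1048576 from rfl, hz2]; simp [zetaH]
        rcases eq_or_ne r 33 with rfl | h3
        · rw [show hval 33 = 1099511627776 from rfl, hz3]; simp [zetaH]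
        rw [Lifts.exact_rels O D r hr' h2 h3 h5]
        have e : hval r = 0 := by
          have b : ∀ m : Nat, r ≠ m → Nat.beq r m = false := fun m hm => by
            cases h : Nat.beq r m with
            | false => rfl
            | true => exact absurd (Nat.eq_of_beq_eq_true h) hm
          simp [hval, b 35 h5, b 32 h2, b 33 h3]
        simp [e, zetaH]
      subs_mem := fun r hr => by
        have hr' : r < 7 := hr
        show (zetaH z1 z2 z3 0)⁻¹ * _ ∈ _
        rw [show zetaH z1 z2 z3 0 = (1 : E) by simp [zetaH], inv_one, one_mul]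
        interval_cases r
        all_goals first
          | exact Lifts.wordW_mem O D
          | exact Subgroup.subset_closure ⟨_, List.mem_range.2 (by omega), (mul_one _).symm⟩ }
  have hlet : ∀ r ∈ MainAlph.rels ++ MainAlph.subs, ∀ y ∈ r, y < 8 := by decide +kernel
  have hup : ∀ c < main.n, main.okUp c = true := fun c hc => tree_all c hc
  have hE : ∀ k < certHi.cnt, S.EntryOK main certHi k :=
    S.entry_sound main certHi hlet hup (lo := certHi.cnt) fun k hk => by
      have := CfsgLib.PresCert.allBelow_spec certHi_ok k hk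
      rwa [show Nat.add 0 k = k from Nat.zero_add k] at this
  have hzk : ∀ σ, S.zeta σ ∈ φ.ker := fun σ =>
    φ.ker.mul_mem (φ.ker.mul_mem (φ.ker.pow_mem k1 _) (φ.ker.pow_mem k2 _)) (φ.ker.pow_mem k3 _)
  have hL : ∀ σ ρ, (S.zeta σ)⁻¹ * S.zeta ρ ∈ S.L → S.zeta σ = S.zeta ρ := fun σ ρ h =>
    inv_mul_eq_one.1 (Lifts.six_inf_ker O D h
      (MonoidHom.mem_ker.1 (φ.ker.mul_mem (φ.ker.inv_mem (hzk σ)) (hzk ρ))))
  have q0 := S.cycle_sound main certHi hlet hE hL certHi_cycle_0
  have q1 := S.cycle_sound main certHi hlet hE hL certHi_cycle_1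
  have q2 := S.cycle_sound main certHi hlet hE hL certHi_cycle_2
  rw [show highW.val 1 = 0 from rfl, S.zeta_zero] at q0
  rw [show highW.val 4 = 0 from rfl, S.zeta_zero] at q1
  rw [show highW.val 31 = 0 from rfl, S.zeta_zero] at q2
  simp only [S, zetaH, Nat.reduceMod, Nat.reduceDiv, pow_zero, one_mul, mul_one] at q0 q1 q2
  have six : ∀ {z : E}, z ∈ φ.ker → z ^ 6 = 1 → z = 1 := by
    intro z hz h
    rw [← orderOf_eq_one_iff]
    exact Nat.eq_one_of_dvd_coprimes (by norm_num : Nat.Coprime 6 226765)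
      (orderOf_dvd_of_pow_eq_one h) (orderOf_dvd_of_pow_eq_one (hm z hz))
  have e2 : z2 = 1 := six k2 q0
  have e3 : z3 = 1 := six k3 q1
  rw [e2, one_pow, mul_one, pow_two] at q2
  have e1 : z1 = 1 := O.eq_one k1 q2
  rw [eq_bot_iff]
  refine ker_le_of_relators hc hperf D.v D.map_v D.v_seven ⊥ bot_le (fun w hw => ?_) fun w hw => ?_
  · exact Subgroup.mem_bot.2 (Lifts.base O D w (List.mem_append_left _ hw))
  · obtain ⟨n, hn, rfl⟩ := extraW_rels w hw
    rw [Subgroup.mem_bot]
    rcases eq_or_ne n 35 with rfl | h5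
    · rw [hz1, e1]
    rcases eq_or_ne n 32 with rfl | h2
    · rw [hz2, e2]
    rcases eq_or_ne n 33 with rfl | h3
    · rw [hz3, e3]
    exact Lifts.exact_rels O D n hn h2 h3 h5

end CfsgLib.Spor.ONMult
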