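import Cfsg.Agent.Lib.Spor.ONMult.Sound
import Cfsg.Agent.Lib.Spor.ONMult.Lifts
import Cfsg.Agent.Lib.Spor.ONMult.Gen
import Cfsg.Agent.Lib.Spor.ONMult.SmallCert
import Cfsg.Agent.Lib.Spor.ONMult.Conj
import Cfsg.Agent.Lib.Schur.Basic
import Cfsg.Agent.S2086

/-!
The multiplier of the O'Nan group has no part at the prime two.

In a central extension by an elementary abelian `2`-group the subgroup `L₃(7)` splits, so its
involutions lift to involutions; hence so do all, and the six involutions of `L₃(7):2` have lifts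
generating a complement.
-/

set_option linter.style.haveILetI false

namespace CfsgLib.Spor.ONMult

open Cfsg.Spor CfsgLib.Spor.ON
open scoped commutatorElement IsMulCommutative

/-- `L₃(7)` inside the presented group -/
noncomputable def iota : PSL37 →* Cfsg.Spor.ON := toON.comp SemidirectProduct.inl

theorem mem_iota {q : L37Two} (h : q.right = 1) : toON q ∈ iota.range :=
  ⟨q.left, show toON (SemidirectProduct.inl q.left) = toON q from
    congrArg toON (SemidirectProduct.ext rfl h.symm)⟩

theorem img_right {x : Nat} (hx : x < 6) : (img x).right = flip2 := by rw [img, if_pos hx]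

theorem letG_mul_mem {x y : Nat} (hx : x < 6) (hy : y < 6) : letG x * letG y ∈ iota.range := by
  rw [← toON_img hx, ← toON_img hy, ← map_mul]
  exact mem_iota (by rw [SemidirectProduct.mul_right, img_right hx, img_right hy]; decide)

theorem letG_zero_notMem : letG 0 ∉ iota.range := by
  rintro ⟨m, hm⟩
  rw [← toON_img (x := 0) (by omega)] at hm
  have e := congrArg SemidirectProduct.right
    (toON_injective (show toON (SemidirectProduct.inl m) = toON (img 0) from hm))
  rw [img_right (by omega), SemidirectProduct.right_inl] at e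
  exact absurd e (by decide)

theorem iota_conj {g : Cfsg.Spor.ON} (hg : g ∈ iota.range) :
    letG 0 * g * (letG 0)⁻¹ ∈ iota.range := by
  obtain ⟨m, rfl⟩ := hg
  rw [← toON_img (x := 0) (by omega), show iota m = toON (SemidirectProduct.inl m) from rfl,
    ← map_inv, ← map_mul, ← map_mul]
  exact mem_iota (by simp)

theorem iota_commutator : ⁅iota.range, iota.range⁆ = iota.range := by
  rw [MonoidHom.range_eq_map, ← Subgroup.map_commutator, ← commutator_def,
    CfsgLib.Classical.PSL_commutator_eq_top_of_SL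
      (CfsgLib.Classical.SL_commutator_eq_top (ι := Fin 3) (F := ZMod 7) (by simp))]

variable {E : Type*} [Group E]

/-- an elementary abelian central `2`-extension -/
structure TwoCentral (φ : E →* Cfsg.Spor.ON) : Prop where
  surj : Function.Surjective φ
  central : φ.ker ≤ Subgroup.center E
  sq : ∀ z ∈ φ.ker, z * z = 1

namespace TwoCentral

variable {φ : E →* Cfsg.Spor.ON} (O : TwoCentral φ)

/-- the preimage of `L₃(7)` -/
noncomputable abbrev pre (φ : E →* Cfsg.Spor.ON) : Subgroup E := iota.range.comap φ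

/-- its derived subgroup -/
noncomputable abbrev core (φ : E →* Cfsg.Spor.ON) : Subgroup E := ⁅pre φ, pre φ⁆

include O

theorem comm {z : E} (hz : z ∈ φ.ker) (g : E) : z * g = g * z :=
  (Subgroup.mem_center_iff.1 (O.central hz) g).symm

theorem inv_self {z : E} (hz : z ∈ φ.ker) : z⁻¹ = z := inv_eq_of_mul_eq_one_right (O.sq z hz)

theorem map_core : (core φ).map φ = iota.range := by
  rw [Subgroup.map_commutator, Subgroup.map_comap_eq_self_of_surjective O.surj, iota_commutator]

theorem exists_core {g : E} (hg : φ g ∈ iota.range) : ∃ k ∈ core φ, ∃ z ∈ φ.ker, g = k * z := by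
  rw [← map_core O] at hg
  obtain ⟨k, hk, e⟩ := hg
  exact ⟨k, hk, k⁻¹ * g, by rw [MonoidHom.mem_ker, map_mul, map_inv, e, inv_mul_cancel],
    (mul_inv_cancel_left k g).symm⟩

theorem core_le_commutator : core φ ≤ ⁅core φ, core φ⁆ := by
  rw [Subgroup.commutator_le]
  intro a ha b hb
  obtain ⟨k, hk, z, hz, rfl⟩ := exists_core O ha
  obtain ⟨l, hl, w, hw, rfl⟩ := exists_core O hb
  have e : ∀ {z : E}, z ∈ φ.ker → ∀ k h : E, k * z * h * (k * z)⁻¹ = k * h * k⁻¹ := fun {z} hz k h => by
    rw [mul_inv_rev, mul_assoc k z h, comm O hz h]; simp [mul_assoc]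
  have e1 : ⁅k * z, l * w⁆ = ⁅k, l⁆ := by
    rw [commutatorElement_def, commutatorElement_def, e hz k (l * w)]
    rw [show k * (l * w) * k⁻¹ = k * l * k⁻¹ * w by
      rw [mul_assoc, mul_assoc l, comm O hw k⁻¹]; simp [mul_assoc], mul_inv_rev]
    simp [mul_assoc]
  rw [e1]
  exact Subgroup.commutator_mem_commutator hk hl

theorem core_trivial [Finite E] {k : E} (hk : k ∈ core φ) (h1 : φ k = 1) : k = 1 := by
  have hinj : Function.Injective iota := toON_injective.comp SemidirectProduct.inl_injective
  let e := (MonoidHom.ofInjective hinj).symm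
  let f : core φ →* PSL37 := e.toMonoidHom.comp ((φ.comp (core φ).subtype).codRestrict iota.range
    fun x => map_core O ▸ Subgroup.mem_map_of_mem φ x.2)
  have hker : ∀ x : core φ, x ∈ f.ker → (x : E) ∈ φ.ker := by
    intro x hx
    have := congrArg Subtype.val ((map_eq_one_iff e e.injective).1 hx)
    exact this
  have hf : Cfsg.IsStemExtension f := by
    refine ⟨e.surjective.comp ?_, fun x hx => ?_, ?_⟩
    · rintro ⟨y, hy⟩
      rw [← map_core O] at hy
      obtain ⟨x, hx, rfl⟩ := hy
      exact ⟨⟨x, hx⟩, rfl⟩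
    · rw [Subgroup.mem_center_iff]
      exact fun g => Subtype.ext (comm O (hker x hx) g).symm
    · intro x _
      have := core_le_commutator O x.2
      rw [← Subgroup.map_subtype_commutator] at this
      obtain ⟨y, hy, e⟩ := this
      exact Subtype.ext e ▸ hy
  obtain ⟨π', hπ'⟩ := CfsgLib.Schur.exists_mult_surjective f hf
  obtain ⟨e'⟩ := CfsgLib.Schur.nonempty_equiv_mult
    (Cfsg.Agent.S2086.result (F := ZMod 7) (ZMod.card 7) 3 (by norm_num) (by norm_num) (by simp))
  have hd : Nat.card f.ker ∣ 3 := by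
    have := Subgroup.card_dvd_of_surjective (π'.comp e'.toMonoidHom) (hπ'.comp e'.surjective)
    rw [Nat.card_congr Multiplicative.toAdd, Nat.card_zmod] at this
    exact this.trans (by norm_num)
  have hx : (⟨k, hk⟩ : core φ) ∈ f.ker := by
    rw [MonoidHom.mem_ker]
    exact (map_eq_one_iff e e.injective).2 (Subtype.ext h1)
  have h3 : (⟨k, hk⟩ : core φ) ^ 3 = 1 := by
    have := orderOf_dvd_iff_pow_eq_one.1 ((orderOf_dvd_natCard (⟨_, hx⟩ : f.ker)).trans hd)
    exact congrArg Subtype.val this
  have h3' : k ^ 3 = 1 := congrArg Subtype.val h3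
  rwa [pow_succ, pow_two, O.sq k (MonoidHom.mem_ker.2 h1), one_mul] at h3'

theorem sq_one_of_mem [Finite E] {g : E} (hg : φ g ∈ iota.range) (h2 : φ g * φ g = 1) : g * g = 1 := by
  obtain ⟨k, hk, z, hz, rfl⟩ := exists_core O hg
  rw [map_mul, MonoidHom.mem_ker.1 hz, mul_one] at h2
  calc k * z * (k * z) = k * k * (z * z) := by
        rw [mul_assoc k z, ← mul_assoc z k z, comm O hz k]; simp [mul_assoc]
    _ = 1 := by rw [core_trivial O (mul_mem hk hk) (by rw [map_mul, h2]), O.sq z hz, one_mul]

theorem sq_one_of_letG_zero [Finite E] {a : E} (ha : φ a = letG 0) : a * a = 1 := by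
  obtain ⟨u, hu⟩ := exists_conj
  obtain ⟨w, hw⟩ := O.surj u
  have h : φ (w⁻¹ * a * w) = letG 0 * letG 2 := by rw [map_mul, map_mul, map_inv, hw, ha, hu]
  have h2 := sq_one_of_mem O (g := w⁻¹ * a * w) (h ▸ letG_mul_mem (by omega) (by omega)) (by
    rw [h, ← hu]
    calc u⁻¹ * letG 0 * u * (u⁻¹ * letG 0 * u) = u⁻¹ * (letG 0 * letG 0) * u := by group
      _ = 1 := by rw [letG_sq 0 (by omega)]; group
  )
  calc a * a = w * (w⁻¹ * a * w * (w⁻¹ * a * w)) * w⁻¹ := by group
    _ = 1 := by rw [h2]; group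

theorem core_conj {a g : E} (ha : φ a = letG 0) (hg : g ∈ core φ) : a * g * a⁻¹ ∈ core φ := by
  have e : (core φ).map (MulAut.conj a).toMonoidHom ≤ core φ := by
    rw [Subgroup.map_commutator]
    have hle : (pre φ).map (MulAut.conj a).toMonoidHom ≤ pre φ := by
      rintro _ ⟨x, hx, rfl⟩
      show φ (a * x * a⁻¹) ∈ iota.range
      rw [map_mul, map_mul, map_inv, ha]
      exact iota_conj hx
    exact Subgroup.commutator_mono hle hle
  exact e ⟨g, hg, rfl⟩

/-- lifts of the letters in good position -/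
theorem exists_good [Finite E] : ∃ v : Nat → E, (∀ x < 8, φ (v x) = letG x) ∧ v 7 = (v 6)⁻¹ ∧
    (∀ x < 6, v x * v 0 ∈ core φ) ∧
    wv v (MainAlph.rels.getD 32 []) = 1 ∧ wv v (MainAlph.rels.getD 35 []) = 1 := by
  obtain ⟨a, ha⟩ := O.surj (letG 0)
  have hk : ∀ x, ∃ k, x < 6 → k ∈ core φ ∧ φ k = letG x * letG 0 ∧ (x = 0 → k = 1) := by
    intro x
    rcases eq_or_ne x 0 with rfl | h0
    · exact ⟨1, fun _ => ⟨one_mem _, by rw [map_one, letG_sq 0 (by omega)], fun _ => rfl⟩⟩
    by_cases hx : x < 6
    · have := letG_mul_mem hx (show 0 < 6 by omega)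
      rw [← map_core O] at this
      obtain ⟨k, hk, e⟩ := this
      exact ⟨k, fun _ => ⟨hk, e, fun h => absurd h h0⟩⟩
    · exact ⟨1, fun h => absurd h hx⟩
  choose k hk using hk
  obtain ⟨g, hg⟩ := O.surj (letG 6)
  let mk : E → E → Nat → E := fun a g x => if x < 6 then k x * a else if x = 6 then g else g⁻¹
  have hv : ∀ a g, φ a = letG 0 → φ g = letG 6 → (∀ x < 8, φ (mk a g x) = letG x) ∧
      mk a g 7 = (mk a g 6)⁻¹ ∧ ∀ x < 6, mk a g x * mk a g 0 ∈ core φ := by
    intro a g ha hg
    refine ⟨fun x hx => ?_, by simp [mk], fun x hx => ?_⟩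
    · by_cases h : x < 6
      · simp only [mk, if_pos h]
        rw [map_mul, (hk x h).2.1, ha, mul_assoc, letG_sq 0 (by omega), mul_one]
      · simp only [mk, if_neg h]
        interval_cases x
        · rw [if_pos rfl, hg]
        · rw [if_neg (by omega), map_inv, hg]; rfl
    · simp only [mk, if_pos hx, if_pos (show 0 < 6 by omega)]
      rw [(hk 0 (by omega)).2.2 rfl, one_mul, mul_assoc, sq_one_of_letG_zero O ha, mul_one]
      exact (hk x hx).1
  have hmem : ∀ a g r, φ a = letG 0 → φ g = letG 6 → r < 36 →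
      wv (mk a g) (MainAlph.rels.getD r []) ∈ φ.ker := by
    intro a g r ha hg hr
    have hl : r < MainAlph.rels.length := hr
    have hA : (MainAlph.rels.all fun r => r.all (fun x => decide (x < 8)) &&
        knownG.contains r) = true := by decide +kernel
    have hr' : MainAlph.rels.getD r [] ∈ MainAlph.rels := by
      rw [List.getD_eq_getElem?_getD, List.getElem?_eq_getElem hl, Option.getD_some]
      exact List.getElem_mem hl
    have := List.all_eq_true.1 hA _ hr'
    simp only [Bool.and_eq_true, List.all_eq_true, decide_eq_true_eq, List.contains_iff_mem] at this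
    rw [MonoidHom.mem_ker, wv, map_list_prod, List.map_map]
    exact (congrArg List.prod (List.map_congr_left fun x hx => (hv a g ha hg).1 x (this.1 x hx))).trans
      (knownG_one _ this.2)
  have pull : ∀ z ∈ φ.ker, ∀ x h : E, x * (z * h) = z * (x * h) := fun z hz x h => by
    rw [← mul_assoc, ← comm O hz x, mul_assoc]
  have twice : ∀ z ∈ φ.ker, ∀ h : E, z * (z * h) = h := fun z hz h => by
    rw [← mul_assoc, O.sq z hz, one_mul]
  -- change the sign of the six involutions
  obtain ⟨z, hz, ez⟩ : ∃ z ∈ φ.ker, wv (mk a g) (MainAlph.rels.getD 32 []) = z :=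
    ⟨_, hmem a g 32 ha hg (by omega), rfl⟩
  have ha' : φ (z * a) = letG 0 := by rw [map_mul, MonoidHom.mem_ker.1 hz, one_mul, ha]
  have e32 : ∀ g, wv (mk (z * a) g) (MainAlph.rels.getD 32 []) =
      z * wv (mk a g) (MainAlph.rels.getD 32 []) := by
    intro g
    rw [show MainAlph.rels.getD 32 [] = [6, 1, 2, 6, 2, 1, 6, 1, 2, 6, 2] from rfl]
    simp only [wv, List.map_cons, List.map_nil, List.prod_cons, List.prod_nil, mul_one, mk,
      show 1 < 6 from by omega, show 2 < 6 from by omega, show ¬ 6 < 6 from by omega, if_true,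
      if_false, mul_assoc]
    simp only [pull z hz, twice z hz]
  obtain ⟨y, hy, ey⟩ : ∃ y ∈ φ.ker, wv (mk (z * a) g) (MainAlph.rels.getD 35 []) = y :=
    ⟨_, hmem _ g 35 ha' hg (by omega), rfl⟩
  have hg' : φ (y * g) = letG 6 := by rw [map_mul, MonoidHom.mem_ker.1 hy, one_mul, hg]
  have f32 : ∀ a, wv (mk a (y * g)) (MainAlph.rels.getD 32 []) =
      wv (mk a g) (MainAlph.rels.getD 32 []) := by
    intro a
    rw [show MainAlph.rels.getD 32 [] = [6, 1, 2, 6, 2, 1, 6, 1, 2, 6, 2] from rfl]
    simp only [wv, List.map_cons, List.map_nil, List.prod_cons, List.prod_nil, mul_one, mk,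
      show 1 < 6 from by omega, show 2 < 6 from by omega, show ¬ 6 < 6 from by omega, if_true,
      if_false, mul_assoc]
    simp only [pull y hy, twice y hy]
  have f35 : ∀ a, wv (mk a (y * g)) (MainAlph.rels.getD 35 []) =
      y * wv (mk a g) (MainAlph.rels.getD 35 []) := by
    intro a
    rw [show MainAlph.rels.getD 35 [] =
      [1, 2, 3, 6, 1, 2, 3, 6, 1, 2, 3, 6, 1, 2, 3, 6, 1, 2, 3, 6] from rfl]
    simp only [wv, List.map_cons, List.map_nil, List.prod_cons, List.prod_nil, mul_one, mk,
      show 1 < 6 from by omega, show 2 < 6 from by omega, show 3 < 6 from by omega,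
      show ¬ 6 < 6 from by omega, if_true, if_false, mul_assoc]
    simp only [pull y hy, twice y hy]
  refine ⟨mk (z * a) (y * g), (hv _ _ ha' hg').1, (hv _ _ ha' hg').2.1, (hv _ _ ha' hg').2.2, ?_, ?_⟩
  · rw [f32, e32, ez, O.sq z hz]
  · rw [f35, ey, O.sq y hy]

theorem six_trivial [Finite E] {v : Nat → E} (hv : ∀ x < 8, φ (v x) = letG x)
    (hcore : ∀ x < 6, v x * v 0 ∈ core φ) {g : E} (hg : g ∈ lsub v (List.range 6)) (h1 : φ g = 1) :
    g = 1 := by
  have ha : φ (v 0) = letG 0 := hv 0 (by omega)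
  have h2 : v 0 * v 0 = 1 := sq_one_of_letG_zero O ha
  have hi : (v 0)⁻¹ = v 0 := inv_eq_of_mul_eq_one_right h2
  have hcj : ∀ x ∈ core φ, v 0 * x * v 0 ∈ core φ := fun x hx => by
    have := core_conj O ha hx
    rwa [hi] at this
  have key : g ∈ core φ ∨ g * v 0 ∈ core φ := by
    clear h1
    induction hg using Subgroup.closure_induction with
    | mem g hg =>
      obtain ⟨x, hx, rfl⟩ := hg
      exact Or.inr (hcore x (List.mem_range.1 hx))
    | one => exact Or.inl (one_mem _)
    | mul g h _ _ ig ih =>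
      rcases ig with ig | ig <;> rcases ih with ih | ih
      · exact Or.inl (mul_mem ig ih)
      · exact Or.inr (by rw [mul_assoc]; exact mul_mem ig ih)
      · refine Or.inr ?_
        have := mul_mem ig (hcj h ih)
        simpa only [mul_assoc, ← mul_assoc (v 0) (v 0), h2, one_mul] using this
      · refine Or.inl ?_
        have := mul_mem ig (hcj _ ih)
        simpa only [mul_assoc, h2, mul_one, ← mul_assoc (v 0) (v 0), one_mul] using this
    | inv g _ ig =>
      rcases ig with ig | ig
      · exact Or.inl (inv_mem ig)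
      · refine Or.inr ?_
        have := hcj _ (inv_mem ig)
        simpa only [mul_inv_rev, hi, mul_assoc, ← mul_assoc (v 0) (v 0), h2, one_mul] using this
  rcases key with hk | hk
  · exact core_trivial O hk h1
  · exfalso
    refine letG_zero_notMem ?_
    have := Subgroup.mem_map_of_mem φ hk
    rwa [map_mul, h1, one_mul, ha, map_core O] at this

end TwoCentral

/-- the element of a weight modulo two -/
def zeta2 (Z : Nat → Subgroup.center E) (w : Nat) : E :=
  ((∏ i ∈ Finset.range 9, if w.testBit i then Z i else 1 : Subgroup.center E) : E)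

theorem zeta2_add {Z : Nat → Subgroup.center E} (hZ : ∀ i, Z i * Z i = 1) (a b : Nat) :
    zeta2 Z (a ^^^ b) = zeta2 Z a * zeta2 Z b := by
  rw [zeta2, zeta2, zeta2, ← Subgroup.coe_mul, ← Finset.prod_mul_distrib]
  refine congrArg Subtype.val (Finset.prod_congr rfl fun i _ => ?_)
  rw [Nat.testBit_xor]
  cases a.testBit i <;> cases b.testBit i <;> simp [hZ]

/-- A perfect central extension by an elementary abelian `2`-group is trivial. -/
theorem ker_eq_bot_two [Finite E] (φ : E →* Cfsg.Spor.ON) (O : TwoCentral φ)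
    (hperf : _root_.commutator E = ⊤) : φ.ker = ⊥ := by
  obtain ⟨v, hv, h7, hcore, h32, h35⟩ := TwoCentral.exists_good O
  have hmap : ∀ w : List Nat, (∀ x ∈ w, x < 8) → φ (wv v w) = wv letG w := fun w hw => by
    rw [wv, wv, map_list_prod, List.map_map]
    exact congrArg List.prod (List.map_congr_left fun x hx => hv x (hw x hx))
  have hknown : ∀ r < 36, φ (wv v (MainAlph.rels.getD r [])) = 1 := by
    intro r hr
    have h := (show ∀ r < 36, (∀ x ∈ MainAlph.rels.getD r [], x < 8) ∧
      MainAlph.rels.getD r [] ∈ knownG by decide +kernel) r hr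
    rw [hmap _ h.1]
    exact knownG_one _ h.2
  have hsix : ∀ w : List Nat, (∀ x ∈ w, x < 6) → wv v w ∈ lsub v (List.range 6) := fun w hw =>
    Subgroup.list_prod_mem _ fun y hy => by
      obtain ⟨x, hx, rfl⟩ := List.mem_map.1 hy
      exact Subgroup.subset_closure ⟨x, List.mem_range.2 (hw x hx), rfl⟩
  have hexact : ∀ r < 36, r ∉ [18, 19, 20, 29, 30, 31, 33] → wv v (MainAlph.rels.getD r []) = 1 := by
    intro r hr hU
    rcases eq_or_ne r 32 with rfl | h2
    · exact h32
    rcases eq_or_ne r 35 with rfl | h5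
    · exact h35
    rcases eq_or_ne r 6 with rfl | h6
    · show wv v [6, 7] = 1
      simp [wv, h7]
    rcases eq_or_ne r 7 with rfl | h7'
    · show wv v [7, 6] = 1
      simp [wv, h7]
    have hlt : ∀ x ∈ MainAlph.rels.getD r [], x < 6 := by
      have hb : ((List.range 36).all fun r => [18, 19, 20, 29, 30, 31, 33, 32, 35, 6, 7].contains r ||
          (MainAlph.rels.getD r []).all fun x => decide (x < 6)) = true := by decide +kernel
      have := List.all_eq_true.1 hb r (List.mem_range.2 hr)
      simp only [Bool.or_eq_true, List.contains_iff_mem, List.all_eq_true, decide_eq_true_eq] at this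
      rcases this with h | h
      · simp only [List.mem_cons, List.not_mem_nil, or_false] at h hU
        omega
      · exact h
    exact TwoCentral.six_trivial O hv hcore (hsix _ hlt) (hknown r hr)
  obtain ⟨l, hl, hlW⟩ : ∃ l ∈ lsub v (List.range 6),
      φ l = φ (wv v (MainAlph.subs.getD 6 [])) := by
    have hmem : wv letG (MainAlph.subs.getD 6 []) ∈ H6 := by
      have := word_mem
      rwa [show (MemWWord.map fun x => (List.range 8).getD x 8) = MainAlph.subs.getD 6 [] by
        decide +kernel] at this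
    have hm : (lsub v (List.range 6)).map φ = H6 := by
      rw [lsub, MonoidHom.map_closure]
      refine congrArg Subgroup.closure (Set.ext fun q => ⟨?_, ?_⟩)
      · rintro ⟨_, ⟨x, hx, rfl⟩, rfl⟩
        exact ⟨x, hx, (hv x (by rw [List.mem_range] at hx; omega)).symm⟩
      · rintro ⟨x, hx, rfl⟩
        exact ⟨_, ⟨x, hx, rfl⟩, hv x (by rw [List.mem_range] at hx; omega)⟩
    rw [← hm] at hmem
    obtain ⟨l, hl, e⟩ := hmem
    exact ⟨l, hl, e.trans (hmap _ (by decide)).symm⟩
  -- the unknown values
  have hzW : l⁻¹ * wv v (MainAlph.subs.getD 6 []) ∈ φ.ker := by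
    rw [MonoidHom.mem_ker, map_mul, map_inv, hlW, inv_mul_cancel]
  let z : Nat → E := fun i => if i < 7 then wv v (MainAlph.rels.getD ([18, 19, 20, 29, 30, 31, 33].getD i 0) [])
    else if i = 8 then l⁻¹ * wv v (MainAlph.subs.getD 6 []) else 1
  have hz : ∀ i, z i ∈ φ.ker := by
    intro i
    simp only [z]
    split_ifs with h1 h2
    · exact MonoidHom.mem_ker.2 (hknown _
        ((show ∀ i < 7, [18, 19, 20, 29, 30, 31, 33].getD i 0 < 36 by decide +kernel) i h1))
    · exact hzW
    · exact one_mem _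
  let Z : Nat → Subgroup.center E := fun i => ⟨z i, O.central (hz i)⟩
  have hZ : ∀ i, Z i * Z i = 1 := fun i => Subtype.ext (O.sq _ (hz i))
  have one : ∀ i < 9, zeta2 Z (2 ^ i) = z i := by
    intro i hi
    rw [zeta2]
    refine (congrArg Subtype.val (Finset.prod_eq_single i (fun j _ hj => ?_) fun h => ?_)).trans ?_
    · rw [Nat.testBit_two_pow, decide_eq_false hj.symm]
      rfl
    · exact absurd (Finset.mem_range.2 hi) h
    · rw [Nat.testBit_two_pow_self]
      rfl
  have zero : zeta2 Z 0 = 1 := by simp [zeta2]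
  let S : Setting twoW MainAlph E :=
    { v := v
      L := lsub v (List.range 6)
      zeta := zeta2 Z
      zeta_comm := fun w g => (Subgroup.mem_center_iff.1 (SetLike.coe_mem _) g).symm
      zeta_zero := zero
      zeta_add := zeta2_add hZ
      rels_zeta := fun r hr => by
        have hr' : r < 36 := hr
        show _ = zeta2 Z (val2 r)
        by_cases hU : r ∈ [18, 19, 20, 29, 30, 31, 33]
        · obtain ⟨i, hi, e, ev⟩ : ∃ i < 7, [18, 19, 20, 29, 30, 31, 33].getD i 0 = r ∧ val2 r = 2 ^ i := by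
            simp only [List.mem_cons, List.not_mem_nil, or_false] at hU
            rcases hU with rfl | rfl | rfl | rfl | rfl | rfl | rfl
            exacts [⟨0, by omega, rfl, rfl⟩, ⟨1, by omega, rfl, rfl⟩, ⟨2, by omega, rfl, rfl⟩,
              ⟨3, by omega, rfl, rfl⟩, ⟨4, by omega, rfl, rfl⟩, ⟨5, by omega, rfl, rfl⟩,
              ⟨6, by omega, rfl, rfl⟩]
          rw [ev, one i (by omega)]
          simp only [z, if_pos hi, e]
        · rw [hexact r hr' hU, (show ∀ r < 36, r ∉ [18, 19, 20, 29, 30, 31, 33] → val2 r = 0 by decide +kernel) r hr' hU, zero]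
      subs_mem := fun r hr => by
        have hr' : r < 7 := hr
        show (zeta2 Z (sval2 r))⁻¹ * _ ∈ _
        rcases eq_or_ne r 6 with rfl | h6
        · rw [show sval2 6 = 2 ^ 8 from rfl, one 8 (by omega)]
          simp only [z, show ¬ 8 < 7 by omega, if_false, if_true]
          have hc := TwoCentral.comm O hzW l
          have : (l⁻¹ * wv v (MainAlph.subs.getD 6 []))⁻¹ * wv v (MainAlph.subs.getD 6 []) = l := by
            calc _ = (l⁻¹ * wv v (MainAlph.subs.getD 6 []))⁻¹ *
                  (l * (l⁻¹ * wv v (MainAlph.subs.getD 6 []))) := by rw [mul_inv_cancel_left]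
              _ = l := by rw [← hc, inv_mul_cancel_left]
          rw [this]
          exact hl
        · rw [(show ∀ r < 7, r ≠ 6 → sval2 r = 0 by decide +kernel) r hr' h6, zero, inv_one, one_mul]
          exact hsix _ ((show ∀ r < 7, r ≠ 6 → ∀ x ∈ MainAlph.subs.getD r [], x < 6 by decide +kernel)
            r hr' h6) }
  have hlet : ∀ r ∈ MainAlph.rels ++ MainAlph.subs, ∀ y ∈ r, y < 8 := by decide +kernel
  have hE : ∀ k < certTwo.cnt, S.EntryOK main certTwo k :=
    S.entry_sound main certTwo hlet (fun c hc => tree_all c hc) (lo := certTwo.cnt) fun k hk => by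
      have := CfsgLib.PresCert.allBelow_spec certTwo_ok k hk
      rwa [show Nat.add 0 k = k from Nat.zero_add k] at this
  have hzk : ∀ σ, S.zeta σ ∈ φ.ker := fun σ => by
    show ((∏ i ∈ Finset.range 9, if σ.testBit i then Z i else 1 : Subgroup.center E) : E) ∈ φ.ker
    refine Finset.prod_induction (fun i => if σ.testBit i then Z i else 1)
      (fun t : Subgroup.center E => (t : E) ∈ φ.ker) (fun a b ha hb => mul_mem ha hb) (one_mem _)
      fun i _ => ?_
    split
    · exact hz i
    · exact one_mem _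
  have hL : ∀ σ ρ, (S.zeta σ)⁻¹ * S.zeta ρ ∈ S.L → S.zeta σ = S.zeta ρ := fun σ ρ h =>
    inv_mul_eq_one.1 (TwoCentral.six_trivial O hv hcore h
      (MonoidHom.mem_ker.1 (φ.ker.mul_mem (φ.ker.inv_mem (hzk σ)) (hzk ρ))))
  have eq : ∀ {r c p σ : Nat}, certTwo.okCycle twoW main MainAlph r c p σ = true →
      (∏ i ∈ Finset.range 9, if σ.testBit i then Z i else 1) =
        ∏ i ∈ Finset.range 9, if (val2 r).testBit i then Z i else 1 := fun h =>
    Subtype.ext (S.cycle_sound main certTwo hlet hE hL h)
  have q0 := eq certTwo_cycle_0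
  have q1 := eq certTwo_cycle_1
  have q2 := eq certTwo_cycle_2
  have q3 := eq certTwo_cycle_3
  have q4 := eq certTwo_cycle_4
  have q5 := eq certTwo_cycle_5
  have q7 := eq certTwo_cycle_7
  rw [show val2 18 = 1 from rfl] at q0 q1
  rw [show val2 23 = 0 from rfl] at q2
  rw [show val2 21 = 0 from rfl] at q3 q7
  rw [show val2 22 = 0 from rfl] at q4
  rw [show val2 31 = 32 from rfl] at q5
  simp [Finset.prod_range_succ, Nat.testBit_eq_decide_div_mod_eq] at q0 q1 q2 q3 q4 q5 q7
  have Z2 : Z 2 = 1 := q3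
  simp [Z2] at q0 q2 q4 q5 q7
  have Z1 : Z 1 = 1 := q0
  simp [Z1] at q2 q4 q5
  have Z3 : Z 3 = 1 := q4
  simp [Z3] at q1 q2
  have Z5 : Z 5 = 1 := q2
  simp [Z5] at q1 q5
  have Z4 : Z 4 = 1 := q1
  simp [Z4] at q5 q7
  have Z0 : Z 0 = 1 := q5
  simp [Z0] at q7
  have Z6 : Z 6 = 1 := q7
  have hall : ∀ n < 36, wv v (MainAlph.rels.getD n []) = 1 := by
    intro n hn
    by_cases hU : n ∈ [18, 19, 20, 29, 30, 31, 33]
    · obtain ⟨i, hi, e, ei⟩ : ∃ i < 7, [18, 19, 20, 29, 30, 31, 33].getD i 0 = n ∧ Z i = 1 := by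
        simp only [List.mem_cons, List.not_mem_nil, or_false] at hU
        rcases hU with rfl | rfl | rfl | rfl | rfl | rfl | rfl
        exacts [⟨0, by omega, rfl, Z0⟩, ⟨1, by omega, rfl, Z1⟩, ⟨2, by omega, rfl, Z2⟩,
          ⟨3, by omega, rfl, Z3⟩, ⟨4, by omega, rfl, Z4⟩, ⟨5, by omega, rfl, Z5⟩, ⟨6, by omega, rfl, Z6⟩]
      have := congrArg Subtype.val ei
      simp only [Z, z, if_pos hi, e] at this
      exact this
    · exact hexact n hn hU
  rw [eq_bot_iff]
  refine ker_le_of_relators O.central hperf v hv h7 ⊥ bot_le (fun w hw => ?_) fun w hw => ?_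
  · rw [Subgroup.mem_bot]
    have h6 := (show ∀ w ∈ coxW, ∀ x ∈ w, x < 6 by decide +kernel) w hw
    refine TwoCentral.six_trivial O hv hcore (hsix w h6) ?_
    rw [hmap w fun x hx => (h6 x hx).trans (by omega)]
    exact baseH_one w (List.mem_append_left _ hw)
  · obtain ⟨n, hn, rfl⟩ := extraW_rels w hw
    exact Subgroup.mem_bot.2 (hall n hn)

end CfsgLib.Spor.ONMult
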