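import Cfsg.Agent.Lib.Spor.ONMult.Bound
import Cfsg.Agent.Lib.Spor.ONMult.High
import Cfsg.Agent.Lib.Spor.ONMult.Two
import Cfsg.Agent.Lib.Spor.ONGL.Stem
import Cfsg.Agent.Lib.Schur.Basic

/-!
The multiplier of the presented O'Nan group is cyclic of order three.
-/

set_option linter.style.haveILetI false

namespace CfsgLib.Spor.ONMult

open Cfsg.Spor CfsgLib.Spor.ON

variable {E : Type*} [Group E]

/-- If the extensions with kernels of exponent dividing `m` are trivial, every kernel element is an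
`m`-th power. -/
theorem exists_root [Finite E] {m : ℕ} (φ : E →* Cfsg.Spor.ON) (hs : Function.Surjective φ)
    (hc : φ.ker ≤ Subgroup.center E) (hperf : _root_.commutator E = ⊤)
    (h : ∀ (N : Subgroup E) [N.Normal] (φ' : E ⧸ N →* Cfsg.Spor.ON), Function.Surjective φ' →
      φ'.ker ≤ Subgroup.center (E ⧸ N) → _root_.commutator (E ⧸ N) = ⊤ →
      (∀ z ∈ φ'.ker, z ^ m = 1) → φ'.ker = ⊥) :
    ∀ z ∈ φ.ker, ∃ w ∈ φ.ker, w ^ m = z := by
  let N : Subgroup E :=
    { carrier := {x | ∃ z ∈ φ.ker, z ^ m = x}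
      one_mem' := ⟨1, φ.ker.one_mem, one_pow m⟩
      mul_mem' := by
        rintro _ _ ⟨a, ha, rfl⟩ ⟨b, hb, rfl⟩
        exact ⟨a * b, φ.ker.mul_mem ha hb,
          (show Commute a b from (Subgroup.mem_center_iff.1 (hc ha) b).symm).mul_pow m⟩
      inv_mem' := by
        rintro _ ⟨a, ha, rfl⟩
        exact ⟨a⁻¹, φ.ker.inv_mem ha, inv_pow a m⟩ }
  have hNk : N ≤ φ.ker := by
    rintro _ ⟨a, ha, rfl⟩
    exact φ.ker.pow_mem ha m
  haveI : N.Normal := ⟨fun n hn g => by
    rw [Subgroup.mem_center_iff.1 (hc (hNk hn)) g, mul_inv_cancel_right]; exact hn⟩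
  let φ' := QuotientGroup.lift N φ hNk
  have hs' : Function.Surjective φ' := fun y => by
    obtain ⟨x, rfl⟩ := hs y
    exact ⟨(x : E ⧸ N), rfl⟩
  have hker : φ'.ker = φ.ker.map (QuotientGroup.mk' N) := QuotientGroup.ker_lift N φ hNk
  have hbot : φ'.ker = ⊥ := by
    refine h N φ' hs' ?_ ?_ ?_
    · intro x hx
      rw [hker] at hx
      obtain ⟨z, hz, rfl⟩ := hx
      rw [Subgroup.mem_center_iff]
      intro g
      obtain ⟨g, rfl⟩ := QuotientGroup.mk'_surjective N g
      rw [← map_mul, ← map_mul, Subgroup.mem_center_iff.1 (hc hz) g]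
    · rw [commutator_def, ← Subgroup.map_top_of_surjective _ (QuotientGroup.mk'_surjective N),
        ← Subgroup.map_commutator, ← commutator_def, hperf]
    · intro x hx
      rw [hker] at hx
      obtain ⟨z, hz, rfl⟩ := hx
      rw [← map_pow, QuotientGroup.mk'_apply, QuotientGroup.eq_one_iff]
      exact ⟨z, hz, rfl⟩
  intro z hz
  have h1 : QuotientGroup.mk' N z ∈ φ'.ker := hker ▸ Subgroup.mem_map_of_mem _ hz
  rw [hbot, Subgroup.mem_bot, QuotientGroup.mk'_apply, QuotientGroup.eq_one_iff] at h1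
  exact h1

/-- A perfect finite central extension has kernel of order at most three, cyclic. -/
theorem card_ker_le [Finite E] (φ : E →* Cfsg.Spor.ON) (hs : Function.Surjective φ)
    (hc : φ.ker ≤ Subgroup.center E) (hperf : _root_.commutator E = ⊤) : Nat.card φ.ker ≤ 3 := by
  haveI := CfsgLib.Spor.ON.finite
  letI : CommGroup φ.ker :=
    { (inferInstance : Group φ.ker) with
      mul_comm := fun a b => Subtype.ext (Subgroup.mem_center_iff.1 (hc b.2) a) }
  have hexp : ∀ z ∈ φ.ker, z ^ Nat.card Cfsg.Spor.ON = 1 := by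
    intro z hz
    have h1 : MonoidHom.transfer (MonoidHom.id φ.ker) z = 1 := by
      have := Abelianization.commutator_subset_ker (MonoidHom.transfer (MonoidHom.id φ.ker))
      rw [hperf] at this
      exact this (Subgroup.mem_top z)
    rw [MonoidHom.transfer_eq_pow _ z (fun n y _ => by
      rw [mul_assoc, ← (Subgroup.mem_center_iff.1 ((Subgroup.center E).pow_mem (hc hz) n) y),
        inv_mul_cancel_left])] at h1
    have h2 : z ^ φ.ker.index = 1 := congrArg Subtype.val h1
    rwa [Subgroup.index_ker, MonoidHom.range_eq_top.2 hs, Subgroup.card_top] at h2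
  have h2root : ∀ z ∈ φ.ker, ∃ w ∈ φ.ker, w ^ 2 = z :=
    exists_root φ hs hc hperf fun N _ φ' a b c d =>
      ker_eq_bot_two φ' ⟨a, b, fun z hz => by rw [← pow_two]; exact d z hz⟩ c
  have hmroot : ∀ z ∈ φ.ker, ∃ w ∈ φ.ker, w ^ 226765 = z :=
    exists_root φ hs hc hperf fun N _ φ' a b c d => ker_eq_bot_high φ' a b c d
  -- roots exclude elements of order `p`
  have hno : ∀ {p m : ℕ}, p ∣ m → (∀ z ∈ φ.ker, ∃ w ∈ φ.ker, w ^ m = z) →
      ∀ z : φ.ker, z ^ p = 1 → z = 1 := by
    intro p m hpm hroot z hzp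
    obtain ⟨k, rfl⟩ := hpm
    have hsurj : Function.Surjective fun w : φ.ker => w ^ p := fun y => by
      obtain ⟨w, hw, e⟩ := hroot y y.2
      exact ⟨(⟨w, hw⟩ : φ.ker) ^ k, Subtype.ext (by
        show (w ^ k) ^ p = (y : E)
        rw [← pow_mul, mul_comm, e])⟩
    exact (Finite.injective_iff_surjective.2 hsurj) (hzp.trans (one_pow p).symm)
  have hp3 : IsPGroup 3 φ.ker := by
    refine IsPGroup.of_card (n := (Nat.card φ.ker).primeFactorsList.length)
      (Nat.eq_prime_pow_of_unique_prime_dvd Nat.card_pos.ne' fun {d} hd hdv => ?_)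
    haveI := Fact.mk hd
    obtain ⟨z, hz⟩ := exists_prime_orderOf_dvd_card' d hdv
    have hdON : d ∣ 460815505920 := by
      have : z ^ Nat.card Cfsg.Spor.ON = 1 := Subtype.ext (hexp z z.2)
      rw [CfsgLib.Spor.ON.natCard] at this
      exact hz ▸ orderOf_dvd_of_pow_eq_one this
    have hne : ∀ {m : ℕ}, (∀ z ∈ φ.ker, ∃ w ∈ φ.ker, w ^ m = z) → ¬ d ∣ m := by
      intro m hroot hdm
      have := hno hdm hroot z (hz ▸ pow_orderOf_eq_one z)
      rw [this, orderOf_one] at hz
      exact hd.one_lt.ne hz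
    have h2 : ¬ d ∣ 2 := hne h2root
    have hm : ¬ d ∣ 226765 := hne hmroot
    by_contra h3
    have hcop : ∀ n, ¬ d ∣ n → Nat.Coprime d n := fun n => (Nat.Prime.coprime_iff_not_dvd hd).2
    have h3' : ¬ d ∣ 3 := fun h => h3 ((Nat.prime_dvd_prime_iff_eq hd Nat.prime_three).1 h)
    rw [show 460815505920 = 2 ^ 9 * 3 ^ 4 * 226765 * 7 ^ 2 from by norm_num] at hdON
    rcases hd.dvd_mul.1 hdON with h | h
    · rcases hd.dvd_mul.1 h with h | h
      · rcases hd.dvd_mul.1 h with h | h
        · exact h2 (hd.dvd_of_dvd_pow h)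
        · exact h3' (hd.dvd_of_dvd_pow h)
      · exact hm h
    · exact hm ((hd.dvd_of_dvd_pow h).trans (by norm_num))
  exact card_ker_le_three φ hs hc hp3 hperf

/-- The multiplier of the presented O'Nan group. -/
theorem hasMultiplier_three : Cfsg.HasCyclicSchurMultiplier Cfsg.Spor.ON 3 := by
  haveI := CfsgLib.Spor.ON.finite
  obtain ⟨Γ₀, _, _, σ₀, hσ₀, ⟨e₀⟩⟩ := CfsgLib.Spor.ONGL.stem_three
  refine CfsgLib.Schur.hasCyclicSchurMultiplier_of_bound hσ₀
    ((Nat.card_congr (e₀.toEquiv.trans Multiplicative.toAdd)).trans (Nat.card_zmod 3)) ?_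
  intro Γ _ _ σ hσ
  obtain ⟨hs, hc, hd⟩ := hσ
  -- the derived group is perfect and covers the O'Nan group
  haveI := CfsgLib.Spor.ON.isSimple
  have hON : _root_.commutator Cfsg.Spor.ON = ⊤ := by
    rcases (inferInstance : (_root_.commutator Cfsg.Spor.ON).Normal).eq_bot_or_eq_top with h | h
    · exfalso
      have hab : ∀ x y : Cfsg.Spor.ON, x * y = y * x := fun x y => by
        have := Subgroup.commutator_eq_bot_iff_le_centralizer.1 (commutator_def Cfsg.Spor.ON ▸ h)
        exact (Subgroup.mem_centralizer_iff.1 (this (Subgroup.mem_top x)) y (Subgroup.mem_top y)).symm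
      have := trivial_of_commute (MonoidHom.id Cfsg.Spor.ON) hab
      exact letG_zero_notMem (by
        rw [show letG 0 = 1 from DFunLike.congr_fun this (letG 0)]
        exact one_mem _)
    · exact h
  have hperf : _root_.commutator Γ = ⊤ := by
    rw [eq_top_iff]
    intro x _
    have hx : σ x ∈ (_root_.commutator Γ).map σ := by
      rw [commutator_def, Subgroup.map_commutator, Subgroup.map_top_of_surjective σ hs, ← commutator_def,
        hON]
      exact Subgroup.mem_top _
    obtain ⟨y, hy, e⟩ := hx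
    rw [← mul_inv_cancel_left y x]
    exact mul_mem hy (hd (by rw [MonoidHom.mem_ker, map_mul, map_inv, e, inv_mul_cancel]))
  have hle := card_ker_le σ hs hc hperf
  refine ⟨?_, hle⟩
  have hpos : 0 < Nat.card σ.ker := Nat.card_pos
  interval_cases h : Nat.card σ.ker
  · haveI : Subsingleton σ.ker := (Nat.card_eq_one_iff_unique.1 h).1
    exact isCyclic_of_subsingleton
  · haveI := Fact.mk Nat.prime_two
    exact isCyclic_of_prime_card h
  · haveI := Fact.mk Nat.prime_three
    exact isCyclic_of_prime_card h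

end CfsgLib.Spor.ONMult
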