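import Cfsg.Agent.Lib.Spor.ONMult.Check

/-!
Weights modulo `226765 = 5 * 7 * 11 * 19 * 31` and weights modulo two.
-/

namespace CfsgLib.Spor.ONMult

/-- the sum of three exponents modulo `226765`, twenty bits each -/
noncomputable def haddW (a b : Nat) : Nat :=
  Nat.add
    (Nat.mod (Nat.add (Nat.mod a (nat_lit 1048576)) (Nat.mod b (nat_lit 1048576))) (nat_lit 226765))
    (Nat.add
      (Nat.mul (Nat.mod (Nat.add (Nat.mod (Nat.div a (nat_lit 1048576)) (nat_lit 1048576))
        (Nat.mod (Nat.div b (nat_lit 1048576)) (nat_lit 1048576))) (nat_lit 226765)) (nat_lit 1048576))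
      (Nat.mul (Nat.mod (Nat.add (Nat.div a (nat_lit 1099511627776)) (Nat.div b (nat_lit 1099511627776)))
        (nat_lit 226765)) (nat_lit 1099511627776)))

/-- values of relators -/
noncomputable def hval (r : Nat) : Nat :=
  bif Nat.beq r (nat_lit 35) then nat_lit 1
  else bif Nat.beq r (nat_lit 32) then nat_lit 1048576
  else bif Nat.beq r (nat_lit 33) then nat_lit 1099511627776
  else nat_lit 0

/-- the weights for the large primes -/
noncomputable def highW : Weights := ⟨haddW, hval, zval⟩

/-- the position of a relator among those with unknown value -/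
noncomputable def val2 (r : Nat) : Nat :=
  bif Nat.beq r (nat_lit 18) then nat_lit 1
  else bif Nat.beq r (nat_lit 19) then nat_lit 2
  else bif Nat.beq r (nat_lit 20) then nat_lit 4
  else bif Nat.beq r (nat_lit 29) then nat_lit 8
  else bif Nat.beq r (nat_lit 30) then nat_lit 16
  else bif Nat.beq r (nat_lit 31) then nat_lit 32
  else bif Nat.beq r (nat_lit 33) then nat_lit 64
  else nat_lit 0

/-- the value of the long subgroup word -/
noncomputable def sval2 (r : Nat) : Nat := bif Nat.beq r (nat_lit 6) then nat_lit 256 else nat_lit 0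

/-- the weights for the prime two -/
noncomputable def twoW : Weights := ⟨Nat.xor, val2, sval2⟩

end CfsgLib.Spor.ONMult
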